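import Cfsg.Agent.MK.S2.Cov2
import Cfsg.Agent.MK.S.Defs
import Cfsg.Agent.MK.T.D
import Cfsg.Agent.TAB.McL.Main
import Cfsg.Agent.H681.TI.McLCov
import Cfsg.Agent.H809.SylB

/-!
# MK, the small row of the triple cover of `McL`, from the count for `McL` (helper86)
-/

set_option autoImplicit false
set_option maxHeartbeats 400000
set_option maxRecDepth 100000

namespace Cfsg.Agent.MK.S86

open Cfsg Subgroup Cfsg.Agent.TAB Cfsg.Agent.TAB.Eng Cfsg.Agent.TAB.Use Cfsg.Agent.MK.S2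
open Cfsg.Agent.H359.CT.McL Cfsg.Agent.McLType.Gens

/-- the combinations of the rows which vanish at the elements of order divisible by three (`notes/MK/s2gen`) -/
def latMcL : List (List (ℤ × ℕ)) := [[(-1, 0), (-1, 1), (1, 5), (1, 11)], [(1, 9)],
  [(-4, 0), (-3, 1), (-1, 4), (2, 5), (1, 6), (3, 9), (1, 10), (2, 11)],
  [(4, 0), (3, 1), (2, 4), (-1, 5), (-1, 6), (1, 7), (-3, 9), (-2, 10), (-1, 11)],
  [(-3, 0), (-2, 1), (-1, 4), (1, 5), (1, 6), (2, 9), (1, 10), (1, 11), (1, 14)],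
  [(-32, 0), (-21, 1), (14, 2), (-2, 3), (5, 4), (26, 5), (26, 6), (30, 7), (28, 8), (-10, 9), (7, 10), (26, 11),
    (1, 12), (13, 14), (13, 16)],
  [(112, 0), (-138, 2), (20, 3), (-46, 4), (-46, 5), (-46, 6), (-82, 7), (-62, 8), (92, 9), (-72, 10), (-260, 11),
    (-10, 12), (-239, 14), (-107, 15), (-128, 16)],
  [(-1890, 0), (4, 1), (1932, 2), (46, 3), (318, 4), (640, 5), (640, 6), (818, 7), (864, 8), (-962, 9), (1008, 10),
    (3640, 11), (140, 12), (163, 13), (3348, 14), (1500, 15), (1792, 16)],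
  [(5197, 0), (-11, 1), (-5313, 2), (-126, 3), (-875, 4), (-1760, 5), (-1760, 6), (-2250, 7), (-2376, 8), (2646, 9),
    (-2772, 10), (-10010, 11), (-385, 12), (-448, 13), (-9207, 14), (-4125, 15), (-4928, 16)],
  [(1, 0), (-1, 2), (1, 9), (-1, 11), (-1, 14), (1, 17)]]

theorem okMcL : okS2 McL.D 10 0 [2, 5, 7, 11] (McL.RR.rel.map Prod.snd) latMcL [0, 13, 9, 6, 5, 4, 1, 12, 15] = true := by
  decide +kernel

/-- **eight characters of odd degree over a faithful central character** -/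
theorem kk_K0 {X : Type} [Group X] [Finite X] {φ : X →* K0} (hφ : Function.Surjective φ)
    (hk : φ.ker = center X) (h3 : Nat.card (center X) = 3) (hp : commutator X = ⊤) {l : X → ℂ} {m : center X →* ℂˣ}
    (hl : Fa (center X) l) (hlm : ∀ z : center X, l z = m z) : kk ⊤ (center X) l = 8 := by
  obtain ⟨T, hm, hr, ht, -⟩ := McL.tabK
  have h1 : orderOf ((clT (MulEquiv.refl K0)).x 10) = 8 := H41.McLTwo.Ords.order_xs 10
  have h2 : _ = 8 := (clT (MulEquiv.refl K0)).card 10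
  generalize (clT (MulEquiv.refl K0)).x 10 = x at h1 h2
  have h4 : ∀ s < 18, McL.D.ord s = 8 → s = 10 := by decide +kernel
  exact kk_of_chk2 hφ hk h3 hp hm hr (inh_of_mass hm (by decide +kernel)) (u := 10) (a := 2)
    ⟨x, h4 _ (T.lt x) ((T.ord x).symm.trans h1), by rw [h2, hm.1]; decide +kernel⟩ (by decide +kernel)
    (by decide +kernel) le_rfl (virt_of_tab ht (by decide +kernel)) (by norm_num) okMcL hl hlm

theorem k0_McL : T.k0 Spor.McL = 8 := (T.k0_of_degList McL.deg).trans (by decide)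

/-- the row of `3.McL` from the count for `McL` -/
theorem mcl3_of (h : IH (Nat.card Spor.McL) → T.M0 Spor.McL) : S.SmC Spor.McL := fun X _ _ φ hφ hk h3 hp ih => by
  have := McL.finite
  obtain ⟨e⟩ := iso_K0
  refine T.sm_of_kk φ hφ hk (by rw [h3]; decide) (fun α hα => ?_)
    (T.CycN.of_selfN (H809.Syl.selfN_mcl ⟨MulEquiv.refl _⟩)) (h ih) fun l m hl hm => ?_
  · obtain ⟨x, hx⟩ := H681.TI.McLCov.inner_of_trivial hp φ hφ hk.le (hk ▸ h3) α fun z hz => hα z (hk.le hz)
    exact ⟨x, MulEquiv.ext hx⟩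
  · rw [k0_McL]
    refine kk_K0 (φ := e.symm.toMonoidHom.comp φ) (e.symm.surjective.comp hφ) ?_ h3 hp hl hm
    rw [← hk]
    ext x
    simp

end Cfsg.Agent.MK.S86
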